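import Mathlib
import Cfsg.Agent.Helper71.BSW.Defs

/-!
# Helper24 / piece (A1c) for helper71's S3282 (abstract Brauer–Suzuki–Wall):
every element whose order is not prime to `2|K|` is conjugate into `K`
-/

set_option autoImplicit false

namespace Cfsg.Agent.Helper24.BSW

open Cfsg.Agent.Helper71.BSW

theorem a1_conj_into_K {G : Type*} [Group G] [Finite G] {t s : G} {K : Subgroup G}
    (h : Hyp t s K) (A : FactsA0 t s K)
    (hS : ∀ ℓ : ℕ, ℓ.Prime → ℓ ≠ 2 → ℓ ∣ Nat.card K → ∀ B : Subgroup G, IsPGroup ℓ B →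
      ∃ x : G, B.map (MulAut.conj x).toMonoidHom ≤ K) :
    ∀ g : G, ¬ (orderOf g).Coprime (2 * Nat.card K) → ∃ x : G, x * g * x⁻¹ ∈ K := by
  intro g hg
  obtain ⟨ℓ, hℓ, hℓg, hℓk⟩ := Nat.Prime.not_coprime_iff_dvd.mp hg
  have hgpos : 0 < orderOf g := orderOf_pos g
  obtain ⟨g', hg'⟩ : ∃ g' : G, g' = g ^ (orderOf g / ℓ) := ⟨_, rfl⟩
  have hord : orderOf g' = ℓ := by
    rw [hg']
    exact orderOf_pow_orderOf_div hgpos.ne' hℓg
  have hcomm : g * g' = g' * g := by
    rw [hg']
    exact ((Commute.refl g).pow_right _).eq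
  have hg'1 : g' ≠ 1 := by
    intro h1
    rw [h1, orderOf_one] at hord
    exact hℓ.one_lt.ne hord
  -- conjugation preserves commutation
  have hcc : ∀ x : G, (x * g * x⁻¹) * (x * g' * x⁻¹) = (x * g' * x⁻¹) * (x * g * x⁻¹) := by
    intro x
    calc (x * g * x⁻¹) * (x * g' * x⁻¹) = x * (g * g') * x⁻¹ := by group
      _ = x * (g' * g) * x⁻¹ := by rw [hcomm]
      _ = (x * g' * x⁻¹) * (x * g * x⁻¹) := by group
  by_cases h2 : ℓ = 2
  · -- `g'` is an involution
    rw [h2] at hord
    obtain ⟨x, hx⟩ := isConj_iff.mp (h.hconj g' t hord h.ht)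
    have hmem : x * g * x⁻¹ ∈ Subgroup.centralizer ({t} : Set G) := by
      rw [Subgroup.mem_centralizer_singleton_iff, ← hx]
      exact hcc x
    rcases A.mem_cent_t_cases _ hmem with hK | ⟨y, hy, hgy⟩
    · exact ⟨x, hK⟩
    · have ho : orderOf (x * g * x⁻¹) = 2 := by rw [hgy]; exact A.orderOf_s_mul y hy
      have ho' : orderOf g = 2 := by
        have hc : orderOf (x * g * x⁻¹) = orderOf g := by
          have := orderOf_injective (MulAut.conj x).toMonoidHom (MulAut.conj x).injective g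
          simpa [MulAut.conj_apply] using this
        rw [← hc]; exact ho
      obtain ⟨c, hc⟩ := isConj_iff.mp (h.hconj g t ho' h.ht)
      exact ⟨c, by rw [hc]; exact h.htK⟩
  · -- `ℓ` odd
    have hℓK : ℓ ∣ Nat.card K := by
      rcases (Nat.Prime.dvd_mul hℓ).mp hℓk with h3 | h3
      · exact absurd ((Nat.prime_dvd_prime_iff_eq hℓ Nat.prime_two).mp h3) h2
      · exact h3
    have hp : IsPGroup ℓ (Subgroup.zpowers g') := by
      apply IsPGroup.of_card (n := 1)
      rw [Nat.card_zpowers, hord, pow_one]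
    obtain ⟨x, hx⟩ := hS ℓ hℓ h2 hℓK (Subgroup.zpowers g') hp
    have hvK : x * g' * x⁻¹ ∈ K := by
      apply hx
      refine ⟨g', Subgroup.mem_zpowers g', ?_⟩
      simp [MulAut.conj_apply]
    have hv1 : x * g' * x⁻¹ ≠ 1 := by
      intro h1
      apply hg'1
      calc g' = x⁻¹ * (x * g' * x⁻¹) * x := by group
        _ = 1 := by rw [h1]; group
    have hvord : orderOf (x * g' * x⁻¹) = ℓ := by
      have := orderOf_injective (MulAut.conj x).toMonoidHom (MulAut.conj x).injective g'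
      rw [← hord]
      simpa [MulAut.conj_apply] using this
    have hvt : x * g' * x⁻¹ ≠ t := by
      intro ht
      rw [ht, h.ht] at hvord
      exact h2 hvord.symm
    have hcent := A.cent_eq_K _ hvK hv1 hvt
    refine ⟨x, ?_⟩
    rw [← hcent, Subgroup.mem_centralizer_singleton_iff]
    exact hcc x

end Cfsg.Agent.Helper24.BSW
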