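import Mathlib
import Cfsg.Agent.Helper71.BSW.Defs

/-!
# Helper24 / piece (B8) for helper71's S3282 (abstract Brauer–Suzuki–Wall): the number of `d`-elements
-/

set_option autoImplicit false

namespace Cfsg.Agent.Helper24.BSW

open Cfsg.Agent.Helper71.BSW

/-- conjugation preserves the order -/
theorem orderOf_conj_eq {G : Type*} [Group G] (x g : G) : orderOf (x * g * x⁻¹) = orderOf g := by
  have := orderOf_injective (MulAut.conj x).toMonoidHom (MulAut.conj x).injective g
  simpa [MulAut.conj_apply] using this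

/-- the final arithmetic, `+` case -/
theorem b8_arith_plus (k nK nQ nD G : ℕ) (hk : 4 ≤ k)
    (hG : G = 2 * k * (2 * k + 1) * (k + 1))
    (hK : nK * (2 * k) = G * (k - 1)) (hQ : nQ + 1 = (2 * k + 1) ^ 2)
    (hsum : G = 1 + nK + nQ + nD) : nD = (2 * k + 1) * k * (k + 1 - 1) := by
  obtain ⟨m, rfl⟩ : ∃ m, k = m + 1 := ⟨k - 1, by omega⟩
  rw [Nat.add_sub_cancel] at hK ⊢
  have hK' : nK = (2 * (m + 1) + 1) * (m + 1 + 1) * m := by
    have h2 : 0 < 2 * (m + 1) := by omega
    apply Nat.eq_of_mul_eq_mul_right h2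
    rw [hK, hG]; ring
  rw [hK', hG] at hsum
  nlinarith [hsum, hQ]

/-- the final arithmetic, `-` case -/
theorem b8_arith_minus (k q d nK nQ nD G : ℕ) (hk : 4 ≤ k) (hq : q + 1 = 2 * k) (hd : d + 1 = k)
    (hG : G = 2 * k * q * d)
    (hK : nK * (2 * k) = G * (k - 1)) (hQ : nQ + 1 = q ^ 2)
    (hsum : G = 1 + nK + nQ + nD) : nD = q * k * (d - 1) := by
  obtain ⟨n, rfl⟩ : ∃ n, d = n + 1 := ⟨d - 1, by omega⟩
  have hk' : k = n + 2 := by omega
  have hq' : q = 2 * n + 3 := by omega
  subst hk' hq'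
  rw [Nat.add_sub_cancel]
  have e1 : n + 2 - 1 = n + 1 := by omega
  rw [e1] at hK
  have hK' : nK = (2 * n + 3) * (n + 1) * (n + 1) := by
    have h2 : 0 < 2 * (n + 2) := by omega
    apply Nat.eq_of_mul_eq_mul_right h2
    rw [hK, hG]; ring
  rw [hK', hG] at hsum
  nlinarith [hsum, hQ]

theorem b_card_Delt {G : Type*} [Group G] [Finite G] {t s : G} {K : Subgroup G} {q d : ℕ}
    (c : Ctx t s K q d) (A1 : FactsA1 t s K)
    (h_arith : Odd q ∧ Odd d ∧ q.Coprime (2 * Nat.card K) ∧ d.Coprime (2 * Nat.card K) ∧ q.Coprime d ∧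
      q ^ 2 = 4 * Nat.card K * d + 1 ∧ 3 ≤ d ∧ 7 ≤ q)
    (h_trichotomy : ∀ g : G, g ≠ 1 → (∃ x : G, x * g * x⁻¹ ∈ K) ∨
    (orderOf g).Coprime (2 * Nat.card K * d) ∨ (orderOf g).Coprime (2 * Nat.card K * q))
    :
    Nat.card {g : G // g ≠ 1 ∧ (orderOf g).Coprime (2 * Nat.card K * q)} =
      q * Nat.card K * (d - 1) := by
  classical
  obtain ⟨-, -, hq2k, -, -, -, -, -⟩ := h_arith
  let _ : Fintype G := Fintype.ofFinite G
  have hGcard := c.card
  -- the pointwise partition
  have key : ∀ g : G, (if g = 1 then 1 else 0) +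
      (if (g ≠ 1 ∧ ∃ x : G, x * g * x⁻¹ ∈ K) then 1 else 0) +
      (if ¬ (orderOf g).Coprime q then 1 else 0) +
      (if (g ≠ 1 ∧ (orderOf g).Coprime (2 * Nat.card K * q)) then 1 else 0) = 1 := by
    intro g
    by_cases h1 : g = 1
    · have nK : ¬ (g ≠ 1 ∧ ∃ x : G, x * g * x⁻¹ ∈ K) := fun h => h.1 h1
      have nQ : ¬ ¬ (orderOf g).Coprime q := by
        intro h; apply h; rw [h1, orderOf_one]; exact Nat.coprime_one_left _
      have nD : ¬ (g ≠ 1 ∧ (orderOf g).Coprime (2 * Nat.card K * q)) := fun h => h.1 h1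
      rw [if_pos h1, if_neg nK, if_neg nQ, if_neg nD]
    · have ho1 : orderOf g ≠ 1 := fun h => h1 (orderOf_eq_one_iff.mp h)
      by_cases hK : (g ≠ 1 ∧ ∃ x : G, x * g * x⁻¹ ∈ K)
      · obtain ⟨-, x, hx⟩ := id hK
        have hdk : orderOf g ∣ Nat.card K := by
          rw [← orderOf_conj_eq x g]
          exact Subgroup.orderOf_dvd_natCard K hx
        have nQ : ¬ ¬ (orderOf g).Coprime q := by
          intro h; apply h
          exact Nat.Coprime.coprime_dvd_left (Dvd.dvd.mul_left hdk 2) hq2k.symm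
        have nD : ¬ (g ≠ 1 ∧ (orderOf g).Coprime (2 * Nat.card K * q)) := by
          rintro ⟨-, hc⟩
          have hck : (orderOf g).Coprime (Nat.card K) :=
            Nat.Coprime.coprime_dvd_right ⟨2 * q, by ring⟩ hc
          exact ho1 (Nat.Coprime.eq_one_of_dvd hck hdk)
        rw [if_neg h1, if_pos hK, if_neg nQ, if_neg nD]
      · by_cases hD : (g ≠ 1 ∧ (orderOf g).Coprime (2 * Nat.card K * q))
        · have nQ : ¬ ¬ (orderOf g).Coprime q := by
            intro h; apply h
            exact Nat.Coprime.coprime_dvd_right ⟨2 * Nat.card K, by ring⟩ hD.2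
          rw [if_neg h1, if_neg hK, if_neg nQ, if_pos hD]
        · have hQ : ¬ (orderOf g).Coprime q := by
            rcases h_trichotomy g h1 with h3 | h3 | h3
            · exact absurd ⟨h1, h3⟩ hK
            · intro hcq
              have hdvd : orderOf g ∣ 2 * Nat.card K * d * q := by
                have := orderOf_dvd_natCard g
                rw [hGcard] at this
                obtain ⟨e, he⟩ := this
                exact ⟨e, by rw [← he]; ring⟩
              have hoq : orderOf g ∣ q := Nat.Coprime.dvd_of_dvd_mul_left h3 hdvd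
              exact ho1 (Nat.Coprime.eq_one_of_dvd hcq hoq)
            · exact absurd ⟨h1, h3⟩ hD
          rw [if_neg h1, if_neg hK, if_pos hQ, if_neg hD]
  -- sum up
  have hsum : Nat.card G = 1 + Nat.card {g : G // g ≠ 1 ∧ ∃ x : G, x * g * x⁻¹ ∈ K} +
      Nat.card {g : G // ¬ (orderOf g).Coprime q} +
      Nat.card {g : G // g ≠ 1 ∧ (orderOf g).Coprime (2 * Nat.card K * q)} := by
    rw [Nat.card_eq_fintype_card, Nat.card_eq_fintype_card, Nat.card_eq_fintype_card,
      Nat.card_eq_fintype_card, Fintype.card_subtype, Fintype.card_subtype, Fintype.card_subtype,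
      Finset.card_filter, Finset.card_filter, Finset.card_filter]
    have e0 : Fintype.card G = ∑ g : G, ((if g = 1 then 1 else 0) +
        (if (g ≠ 1 ∧ ∃ x : G, x * g * x⁻¹ ∈ K) then 1 else 0) +
        (if ¬ (orderOf g).Coprime q then 1 else 0) +
        (if (g ≠ 1 ∧ (orderOf g).Coprime (2 * Nat.card K * q)) then 1 else 0)) := by
      rw [Finset.sum_congr rfl (fun g _ => key g)]
      simp
    rw [e0, Finset.sum_add_distrib, Finset.sum_add_distrib, Finset.sum_add_distrib,
      Finset.sum_ite_eq' Finset.univ (1 : G) (fun _ => (1 : ℕ)), if_pos (Finset.mem_univ _)]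
  have hKc := A1.card_conjK
  have hQc := c.countQ
  rcases c.sign with ⟨hq, hd⟩ | ⟨hq, hd⟩
  · subst hq hd
    exact b8_arith_plus (Nat.card K) _ _ _ (Nat.card G) c.k4 (by rw [hGcard]) hKc hQc hsum
  · exact b8_arith_minus (Nat.card K) q d _ _ _ (Nat.card G) c.k4 hq hd hGcard hKc hQc hsum

end Cfsg.Agent.Helper24.BSW
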