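import Mathlib
import Cfsg.Agent.Helper71.BSW.Defs

/-!
# Helper24 / piece (K2b) for helper71's S3282 (abstract Brauer–Suzuki–Wall):
the case `|K| = 2`, `|G| = 12`: the conclusion with `q = 3`
-/

set_option autoImplicit false
set_option linter.unusedVariables false
set_option linter.unusedTactic false

namespace Cfsg.Agent.Helper24.BSW

open Cfsg.Agent.Helper71.BSW

/-- conjugation preserves the order -/
theorem k2b_orderOf_conj {G : Type*} [Group G] (x g : G) : orderOf (x * g * x⁻¹) = orderOf g := by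
  have := orderOf_injective (MulAut.conj x).toMonoidHom (MulAut.conj x).injective g
  simpa [MulAut.conj_apply] using this

/-- no element of order `3` commutes with an involution when `|C(t)| = 4` -/
theorem k2b_no_comm {G : Type*} [Group G] [Finite G] {t s : G} {K : Subgroup G}
    (h : Hyp t s K) (A0 : FactsA0 t s K) (hk : Nat.card K = 2) :
    ∀ a x : G, orderOf a = 2 → orderOf x = 3 → a * x ≠ x * a := by
  intro a x ha hx hcomm
  obtain ⟨c, hc⟩ := isConj_iff.mp (h.hconj a t ha h.ht)
  have hmem : c * x * c⁻¹ ∈ Subgroup.centralizer ({t} : Set G) := by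
    rw [Subgroup.mem_centralizer_singleton_iff, ← hc]
    calc c * x * c⁻¹ * (c * a * c⁻¹) = c * (x * a) * c⁻¹ := by group
      _ = c * (a * x) * c⁻¹ := by rw [hcomm]
      _ = c * a * c⁻¹ * (c * x * c⁻¹) := by group
  have hdvd : orderOf (c * x * c⁻¹) ∣ Nat.card (Subgroup.centralizer ({t} : Set G)) :=
    Subgroup.orderOf_dvd_natCard _ hmem
  rw [k2b_orderOf_conj, hx, A0.card_cent_t, hk] at hdvd
  norm_num at hdvd

/-- a number dividing `12`, divisible by `3` and odd is `3` -/
theorem k2b_arith {c : ℕ} (h12 : c ∣ 12) (h3 : 3 ∣ c) (h2 : ¬ 2 ∣ c) : c = 3 := by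
  have hle : c ≤ 12 := Nat.le_of_dvd (by norm_num) h12
  interval_cases c <;> first | rfl | (exfalso; revert h12; norm_num; done) |
    (exfalso; revert h3; norm_num; done) | (exfalso; revert h2; norm_num; done)

theorem k2_concl_twelve {G : Type*} [Group G] [Finite G] {t s : G} {K : Subgroup G}
    (h : Hyp t s K) (A0 : FactsA0 t s K) (A1 : FactsA1 t s K) (hk : Nat.card K = 2)
    (hG : Nat.card G = 12) : Concl G := by
  classical
  have hfact : Fact (Nat.Prime 3) := ⟨Nat.prime_three⟩
  have hfact2 : Fact (Nat.Prime 2) := ⟨Nat.prime_two⟩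
  have hnc := k2b_no_comm h A0 hk
  obtain ⟨P⟩ : Nonempty (Sylow 3 G) := inferInstance
  have hPcard : Nat.card (P : Subgroup G) = 3 := by
    obtain ⟨n, hn⟩ := IsPGroup.iff_card.mp P.isPGroup'
    have h3 : 3 ∣ Nat.card (P : Subgroup G) := P.dvd_card_of_dvd_card (by rw [hG]; norm_num)
    have hd : Nat.card (P : Subgroup G) ∣ 12 := hG ▸ Subgroup.card_subgroup_dvd_card _
    rw [hn] at h3 hd ⊢
    have hn1 : n ≠ 0 := by
      rintro rfl
      norm_num at h3
    have hn2 : n < 2 := by
      by_contra hc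
      push Not at hc
      have : 3 ^ 2 ∣ 12 := dvd_trans (pow_dvd_pow 3 hc) hd
      norm_num at this
    have : n = 1 := by omega
    rw [this, pow_one]
  obtain ⟨Q, hQ⟩ : ∃ Q : Subgroup G, Q = (P : Subgroup G) := ⟨_, rfl⟩
  have hQcard : Nat.card Q = 3 := by rw [hQ]; exact hPcard
  -- elements of `Q`
  have hQord : ∀ x ∈ Q, x ≠ 1 → orderOf x = 3 := by
    intro x hx hx1
    have hd : orderOf x ∣ 3 := hQcard ▸ Subgroup.orderOf_dvd_natCard Q hx
    rcases (Nat.dvd_prime Nat.prime_three).mp hd with h1 | h3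
    · exact absurd (orderOf_eq_one_iff.mp h1) hx1
    · exact h3
  have hQzp : ∀ x ∈ Q, x ≠ 1 → Subgroup.zpowers x = Q := by
    intro x hx hx1
    apply Subgroup.eq_of_le_of_card_ge (Subgroup.zpowers_le.mpr hx)
    rw [Nat.card_zpowers, hQord x hx hx1, hQcard]
  -- members of `Q` are `1`, `x`, `x⁻¹`
  have hQmem : ∀ x ∈ Q, x ≠ 1 → ∀ y ∈ Q, y = 1 ∨ y = x ∨ y = x⁻¹ := by
    intro x hx hx1 y hy
    rw [← hQzp x hx hx1] at hy
    obtain ⟨k, rfl⟩ := Subgroup.mem_zpowers_iff.mp hy
    have hx3 : x ^ 3 = 1 := by rw [← hQord x hx hx1]; exact pow_orderOf_eq_one x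
    have hk : x ^ k = x ^ (k % 3) := by
      have := zpow_mod_orderOf x k
      rw [hQord x hx hx1] at this
      exact this.symm
    have hk0 : 0 ≤ k % 3 := Int.emod_nonneg _ (by norm_num)
    have hk3 : k % 3 < 3 := Int.emod_lt_of_pos _ (by norm_num)
    rw [hk]
    obtain ⟨m, hm⟩ : ∃ m : ℕ, k % 3 = m := ⟨(k % 3).toNat, (Int.toNat_of_nonneg hk0).symm⟩
    rw [hm, zpow_natCast]
    have hm3 : m < 3 := by omega
    interval_cases m
    · left; rw [pow_zero]
    · right; left; rw [pow_one]
    · right; right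
      calc x ^ 2 = x ^ 3 * x⁻¹ := by group
        _ = x⁻¹ := by rw [hx3, one_mul]
  -- centralizers
  have hcent : ∀ x ∈ Q, x ≠ 1 → Subgroup.centralizer ({x} : Set G) = Q := by
    intro x hx hx1
    have hle : Q ≤ Subgroup.centralizer ({x} : Set G) := by
      rw [← hQzp x hx hx1, Subgroup.zpowers_le, Subgroup.mem_centralizer_singleton_iff]
    have h12 : Nat.card (Subgroup.centralizer ({x} : Set G)) ∣ 12 :=
      hG ▸ Subgroup.card_subgroup_dvd_card _
    have h3 : 3 ∣ Nat.card (Subgroup.centralizer ({x} : Set G)) :=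
      hQcard ▸ Subgroup.card_dvd_of_le hle
    have h2 : ¬ 2 ∣ Nat.card (Subgroup.centralizer ({x} : Set G)) := by
      intro h2
      obtain ⟨a, ha⟩ := exists_prime_orderOf_dvd_card' 2 h2
      have ha' : orderOf (a : G) = 2 := by rw [Subgroup.orderOf_coe]; exact ha
      have hcomm := Subgroup.mem_centralizer_singleton_iff.mp a.2
      exact hnc a x ha' (hQord x hx hx1) hcomm
    have hc3 := k2b_arith h12 h3 h2
    exact (Subgroup.eq_of_le_of_card_ge hle (by rw [hc3, hQcard])).symm
  -- involutions normalizing `Q` invert it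
  have hinvol : ∀ a : G, orderOf a = 2 → a ∈ Subgroup.normalizer (Q : Set G) →
      ∀ x ∈ Q, x ≠ 1 → a * x * a⁻¹ = x⁻¹ := by
    intro a ha haN x hx hx1
    have hy : a * x * a⁻¹ ∈ Q := (Subgroup.mem_normalizer_iff.mp haN x).mp hx
    rcases hQmem x hx hx1 _ hy with h1 | h1 | h1
    · exfalso
      apply hx1
      calc x = a⁻¹ * (a * x * a⁻¹) * a := by group
        _ = 1 := by rw [h1]; group
    · exfalso
      apply hnc a x ha (hQord x hx hx1)
      calc a * x = (a * x * a⁻¹) * a := by group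
        _ = x * a := by rw [h1]
    · exact h1
  -- the normalizer
  have hnorm : Subgroup.normalizer (Q : Set G) = Q := by
    have hle : Q ≤ Subgroup.normalizer (Q : Set G) := Subgroup.le_normalizer
    have hidx : Nat.card (Sylow 3 G) = (Subgroup.normalizer (Q : Set G)).index := by
      rw [hQ]; exact P.card_eq_index_normalizer
    have hmod : Nat.card (Sylow 3 G) ≡ 1 [MOD 3] := card_sylow_modEq_one 3 G
    have hmul := Subgroup.card_mul_index (Subgroup.normalizer (Q : Set G))
    rw [hG] at hmul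
    have h3 : 3 ∣ Nat.card (Subgroup.normalizer (Q : Set G)) :=
      hQcard ▸ Subgroup.card_dvd_of_le hle
    rw [hidx] at hmod
    obtain ⟨f, hf⟩ := h3
    have hcases : (Subgroup.normalizer (Q : Set G)).index = 1 ∨
        (Subgroup.normalizer (Q : Set G)).index = 4 := by
      have hi : (Subgroup.normalizer (Q : Set G)).index ∣ 4 := ⟨f, by rw [hf] at hmul; linarith⟩
      have hle4 := Nat.le_of_dvd (by norm_num) hi
      unfold Nat.ModEq at hmod
      interval_cases (Subgroup.normalizer (Q : Set G)).index <;> simp_all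
    rcases hcases with h1 | h4
    · exfalso
      have htop : Subgroup.normalizer (Q : Set G) = ⊤ := Subgroup.index_eq_one.mp h1
      have hall : ∀ g : G, g ∈ Subgroup.normalizer (Q : Set G) := fun g => htop ▸ Subgroup.mem_top g
      obtain ⟨x, hx⟩ := exists_prime_orderOf_dvd_card' (G := Q) 3 (by rw [hQcard])
      have hx3 : orderOf (x : G) = 3 := by rw [Subgroup.orderOf_coe]; exact hx
      have hx1 : (x : G) ≠ 1 := by
        intro h1
        rw [h1, orderOf_one] at hx3
        norm_num at hx3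
      have e1 := hinvol t h.ht (hall t) x x.2 hx1
      have e2 := hinvol s h.hs (hall s) x x.2 hx1
      have e3 := hinvol (s * t) (A0.orderOf_s_mul t h.htK) (hall _) x x.2 hx1
      have e4 : s * t * (x : G) * (s * t)⁻¹ = (x : G) := by
        calc s * t * (x : G) * (s * t)⁻¹ = s * (t * (x : G) * t⁻¹) * s⁻¹ := by group
          _ = s * (x : G)⁻¹ * s⁻¹ := by rw [e1]
          _ = (s * (x : G) * s⁻¹)⁻¹ := by group
          _ = (x : G) := by rw [e2, inv_inv]
      rw [e4] at e3
      -- `x = x⁻¹` and `x ^ 3 = 1`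
      have hxx : (x : G) * (x : G) = 1 := by
        calc (x : G) * (x : G) = (x : G) * (x : G)⁻¹ := by rw [← e3]
          _ = 1 := mul_inv_cancel _
      have hx3' : (x : G) ^ 3 = 1 := by rw [← hx3]; exact pow_orderOf_eq_one _
      apply hx1
      calc (x : G) = (x : G) ^ 3 * ((x : G) * (x : G))⁻¹ := by group
        _ = 1 := by rw [hx3', hxx]; group
    · have hc : Nat.card (Subgroup.normalizer (Q : Set G)) = 3 := by
        rw [h4] at hmul; omega
      exact (Subgroup.eq_of_le_of_card_ge hle (by rw [hc, hQcard])).symm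
  refine ⟨Q, ⊥, ?_, hcent, ?_, ?_, ?_, ?_, ?_⟩
  · rw [hG, hQcard]
  · exact ⟨⟨fun a b => Subsingleton.elim _ _⟩⟩
  · rw [Subgroup.card_bot, hQcard]
  · exact inf_bot_eq _
  · rw [hnorm, sup_bot_eq]
  · intro X hX hX1
    exact absurd (le_bot_iff.mp hX) hX1

end Cfsg.Agent.Helper24.BSW
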